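import Cfsg.Agent.Lib.Blocks.HeightZero

/-!
# Membership in the principal block by the sum over the regular elements

`χ` lies in the principal block if and only if the sum of its values over the `p`-regular elements
is not zero.
-/

namespace Cfsg.Agent.Lib.PIndexBlock.Criterion

open Cfsg.Agent.Lib.Blocks Cfsg.Agent.Lib.Characters.Basic
open scoped ComplexConjugate

attribute [local instance] Ideal.Quotient.field

universe u

variable {M : Ideal Cfsg.AlgInt} {p : ℕ} {G : Type u} [Group G] [Finite G]

open scoped Classical in
theorem mem_principalBlock_iff [Fintype G] (hM : Cfsg.IsPModular p M) (χ : Cfsg.IrrCharacter G) :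
    χ ∈ Cfsg.principalBlock M G ↔
      ∑ g : G, (if p ∣ orderOf g then 0 else (χ : G → ℂ) g) ≠ 0 := by
  haveI : M.IsMaximal := hM.2.1
  have hval : ((omegaR M χ (regElt M p (oneChar G)) : localRing M) : ℂ) =
      conj (∑ g : G, (if p ∣ orderOf g then 0 else (χ : G → ℂ) g)) / (χ : G → ℂ) 1 := by
    rw [coe_omegaR_regElt, map_sum]
    congr 1
    refine Finset.sum_congr rfl fun g _ => ?_
    split_ifs
    · simp
    · rw [oneChar_apply, one_mul]
  constructor
  · intro hχ h0
    rw [h0, map_zero, zero_div] at hval
    have h1 : omegaBar M (oneChar G) (mapCenter (residue M) (regElt M p (oneChar G))) = 0 := by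
      rw [omegaBar_eq_of_mem isPBlock_principalBlock oneChar_mem_principalBlock hχ,
        omegaBar_mapCenter, show omegaR M χ (regElt M p (oneChar G)) = 0 from Subtype.ext hval,
        map_zero]
    exact omegaBar_regElt_ne_zero hM blockHeight_oneChar h1
  · intro hne
    by_contra hχ
    rw [principalBlock_eq] at hχ
    rw [omegaR_regElt_eq_zero hM hχ] at hval
    rcases div_eq_zero_iff.mp hval.symm with h | h
    · exact hne ((map_eq_zero conj).mp h)
    · exact apply_one_ne_zero χ h

end Cfsg.Agent.Lib.PIndexBlock.Criterion
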