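import Cfsg.Agent.Lib.PIndexBlock.Criterion
import Cfsg.Agent.Lib.BC78.CyclicExt
import Cfsg.Agent.Lib.BC78.LinTwist
import Cfsg.Agent.Lib.BlocksChars5.Restrict
import Cfsg.Agent.Lib.DegreeBounds.Basic
import Cfsg.Agent.Lib.Transfer.PResidual
import Cfsg.Prelude.Def_Transfer
import Mathlib.RingTheory.RootsOfUnity.Complex

/-!
# `σ`-fixed characters over `O^p` with cyclic quotient

`σ` is `g ↦ g ^ k` with `k ≡ 1 + p` on `p`-elements and `k ≡ 1` on `p'`-elements.  A fixed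
invariant character of `p'`-degree of `N = O^p(G)` has exactly `p` fixed extensions.
-/

namespace Cfsg.Agent.Lib.PIndexBlock.SigmaCount

open Cfsg.Agent.Lib.Characters.Basic Cfsg.Agent.Lib.BC78
open scoped ComplexConjugate

universe u

variable {G : Type u} [Group G] [Finite G] {p : ℕ} [Fact p.Prime] (N : Subgroup G) [hN : N.Normal]

theorem index_eq_pow (hres : N = Cfsg.pResidual p G) : ∃ m, N.index = p ^ m := by
  obtain ⟨P⟩ := (inferInstance : Nonempty (Sylow p G))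
  have hsup : N ⊔ (P : Subgroup G) = ⊤ := hres ▸ Transfer.PResidual.sup_sylow_eq_top P
  obtain ⟨n, hn⟩ := P.isPGroup'.exists_card_eq
  have h : N.index ∣ Nat.card (P : Subgroup G) := by
    rw [← Subgroup.relIndex_top_right, ← hsup, sup_comm, Subgroup.relIndex_sup_right]
    exact Subgroup.relIndex_dvd_card _ _
  rw [hn] at h
  obtain ⟨i, -, hi⟩ := (Nat.dvd_prime_pow (Fact.out : p.Prime)).mp h
  exact ⟨i, hi⟩

theorem mem_of_regular (hres : N = Cfsg.pResidual p G) {g : G} (hg : ¬ p ∣ orderOf g) : g ∈ N :=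
  hres ▸ Subgroup.subset_closure
    (((Fact.out : p.Prime).coprime_iff_not_dvd.mpr hg).symm : Nat.Coprime (orderOf g) p)

/-- Homomorphisms of exponent `p` are trivial on `N`. -/
theorem hom_trivial (hres : N = Cfsg.pResidual p G) (l : G →* ℂˣ) (h : ∀ x ∈ N, l x ^ p = 1) :
    ∀ x ∈ N, l x = 1 := by
  suffices hle : N ≤ l.ker from fun x hx => hle hx
  intro x hx
  rw [hres] at hx
  refine (Subgroup.closure_le _).mpr (fun g hg => ?_) hx
  have hcop : Nat.Coprime (orderOf g) p := hg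
  have hgN : g ∈ N := hres ▸ Subgroup.subset_closure hcop
  show l g = 1
  rw [← orderOf_eq_one_iff]
  exact Nat.eq_one_of_dvd_coprimes hcop (orderOf_map_dvd _ _)
    (orderOf_dvd_of_pow_eq_one (h g hgN))

/-- A `p`-element generating the quotient. -/
theorem exists_gen (hres : N = Cfsg.pResidual p G) (hcyc : IsCyclic (G ⧸ N)) (P : Sylow p G) :
    ∃ g : G, g ∈ (P : Subgroup G) ∧ ∀ y : G, ∃ (i : ℕ) (n : N), y = (n : G) * g ^ i := by
  obtain ⟨q, hq⟩ := hcyc.exists_generator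
  obtain ⟨y, rfl⟩ := QuotientGroup.mk_surjective q
  have hy : y ∈ N ⊔ (P : Subgroup G) := by
    rw [hres, Transfer.PResidual.sup_sylow_eq_top P]; trivial
  obtain ⟨n, hn, g, hg, rfl⟩ := Subgroup.mem_sup_of_normal_left.mp hy
  refine ⟨g, hg, fun z => ?_⟩
  obtain ⟨i, hi⟩ := (mem_powers_iff_mem_zpowers.mpr (hq z))
  refine ⟨i, ⟨z * (g ^ i)⁻¹, ?_⟩, by simp⟩
  rw [← QuotientGroup.eq_one_iff, QuotientGroup.mk_mul, QuotientGroup.mk_inv, ← hi,
    QuotientGroup.mk_pow, QuotientGroup.mk_mul, (QuotientGroup.eq_one_iff n).mpr hn, one_mul,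
    mul_inv_cancel]

section
variable [Fintype G] {M : Ideal Cfsg.AlgInt}

open scoped Classical in
theorem mem_block_iff (hres : N = Cfsg.pResidual p G) (hM : Cfsg.IsPModular p M)
    (χ : Cfsg.IrrCharacter G) (θ : Cfsg.IrrCharacter N) (hχ : ∀ n : N, (χ : G → ℂ) n = (θ : N → ℂ) n) :
    χ ∈ Cfsg.principalBlock M G ↔ θ ∈ Cfsg.principalBlock M N := by
  haveI := Fintype.ofFinite N
  rw [Criterion.mem_principalBlock_iff hM, Criterion.mem_principalBlock_iff hM]
  refine Iff.not (Eq.congr_left ?_)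
  have h : ∀ g : G, g ∉ N → (if p ∣ orderOf g then 0 else (χ : G → ℂ) g) = 0 := fun g hg =>
    if_pos (by_contra fun hp => hg (mem_of_regular N hres hp))
  rw [← Finset.sum_subset (Finset.subset_univ (Finset.univ.filter (· ∈ N)))
    (fun g _ hg => h g (by simpa using hg)),
    Finset.sum_subtype (p := fun g => g ∈ N) _ (fun g => by simp)]
  exact Finset.sum_congr rfl fun n _ => by rw [Subgroup.orderOf_coe, hχ]
end

theorem coprime_of_exponent {k : ℕ}
    (hk₁ : ∀ g : G, (∃ j : ℕ, orderOf g = p ^ j) → g ^ k = g ^ (1 + p))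
    (hk₂ : ∀ g : G, Nat.Coprime (orderOf g) p → g ^ k = g) : Nat.Coprime k (Nat.card G) := by
  refine Nat.coprime_of_dvd fun r hr hrk hrG => ?_
  haveI : Fact r.Prime := ⟨hr⟩
  obtain ⟨g, hg⟩ := exists_prime_orderOf_dvd_card' r hrG
  have hgk : g ^ k = 1 := orderOf_dvd_iff_pow_eq_one.mp (hg ▸ hrk)
  have hgg : g ^ k = g := by
    by_cases hrp : r = p
    · subst hrp
      rw [hk₁ g ⟨1, by rw [hg, pow_one]⟩, add_comm, pow_succ, ← hg, pow_orderOf_eq_one, one_mul]
    · exact hk₂ g (hg ▸ (Nat.coprime_primes hr Fact.out).mpr hrp)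
  rw [hgg] at hgk
  rw [hgk, orderOf_one] at hg
  exact hr.ne_one hg.symm

/-- Evaluations of a linear character trivial on `N` under `g ↦ g ^ k`. -/
theorem hom_pow {k : ℕ} {g : G} (hg : ∀ y : G, ∃ (i : ℕ) (n : N), y = (n : G) * g ^ i)
    (hgk : g ^ k = g ^ (1 + p)) (l : G →* ℂˣ) (hl : ∀ x ∈ N, l x = 1) (y : G) :
    l (y ^ k) = l y * l y ^ p := by
  obtain ⟨i, n, rfl⟩ := hg y
  rw [map_pow, map_mul, hl n n.2, one_mul, map_pow, ← pow_mul, ← pow_mul, mul_comm i k, pow_mul,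
    ← map_pow l g k, hgk, map_pow, ← pow_mul, ← pow_add]
  congr 1
  ring

/-- The twist of the power of a character determines the determinant. -/
theorem det_pow {k : ℕ} (hk : Nat.Coprime k (Nat.card G)) {n : ℕ}
    (ρ : Representation ℂ G (Fin n → ℂ)) (l : G →* ℂˣ)
    (h : ∀ y, ρ.character (y ^ k) = (l y : ℂ) * ρ.character y) (y : G) :
    LinearMap.det (ρ y) ^ k = (l y : ℂ) ^ n * LinearMap.det (ρ y) := by
  classical
  have := Fintype.ofFinite G
  set C := Subgroup.zpowers y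
  let σ : Representation ℂ C (Fin n → ℂ) :=
    { toFun := fun c => ρ ((c : G) ^ k)
      map_one' := by simp
      map_mul' := fun a b => by
        rw [Subgroup.coe_mul, Commute.mul_pow, map_mul]
        obtain ⟨i, hi⟩ := a.2
        obtain ⟨j, hj⟩ := b.2
        rw [← hi, ← hj]
        exact (Commute.refl y).zpow_zpow i j }
  let τ : Representation ℂ C (Fin n → ℂ) :=
    { toFun := fun c => ((l (c : G) : ℂˣ) : ℂ) • ρ (c : G)
      map_one' := by simp
      map_mul' := fun a b => by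
        rw [Subgroup.coe_mul, map_mul, map_mul, Units.val_mul, smul_mul_smul_comm] }
  have hστ : σ.character = τ.character := by
    funext c
    show LinearMap.trace ℂ _ (ρ ((c : G) ^ k)) = LinearMap.trace ℂ _ (((l (c : G) : ℂˣ) : ℂ) • ρ (c : G))
    rw [map_smul, smul_eq_mul]
    exact h c
  obtain ⟨E⟩ := Characters.Complete.nonempty_equiv_of_char_eq σ τ hστ
  set c : C := ⟨y, Subgroup.mem_zpowers y⟩
  have hdet : LinearMap.det (τ c) = LinearMap.det (σ c) := by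
    set L := E.toLinearEquiv
    have hE : ∀ w, L (σ c w) = τ c (L w) := fun w =>
      LinearMap.congr_fun (E.toIntertwiningMap.isIntertwining' c) w
    have h1 : τ c = L.toLinearMap.comp ((σ c).comp L.symm.toLinearMap) :=
      LinearMap.ext fun v => by simp [hE]
    rw [h1, LinearMap.det_conj]
  have h2 : LinearMap.det (σ c) = LinearMap.det (ρ y) ^ k := by
    show LinearMap.det (ρ (y ^ k)) = _
    rw [map_pow, map_pow]
  have h3 : LinearMap.det (τ c) = (l y : ℂ) ^ n * LinearMap.det (ρ y) := by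
    show LinearMap.det (((l y : ℂˣ) : ℂ) • ρ y) = _
    rw [LinearMap.det_smul, Module.finrank_fin_fun]
  rw [← h2, ← hdet, h3]

/-- A fixed extension. -/
theorem exists_fixed_extension (hres : N = Cfsg.pResidual p G) [IsCyclic (G ⧸ N)] (P : Sylow p G)
    {k : ℕ} (hk₁ : ∀ g : G, (∃ j : ℕ, orderOf g = p ^ j) → g ^ k = g ^ (1 + p))
    (hk₂ : ∀ g : G, Nat.Coprime (orderOf g) p → g ^ k = g)
    (θ : Cfsg.IrrCharacter N) (hd : ¬ p ∣ Cfsg.charDegree (θ : N → ℂ))
    (hinv : ∀ g : G, Clifford.conjIrr N θ g = θ)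
    (hfix : ∀ n : N, (θ : N → ℂ) (n ^ k) = (θ : N → ℂ) n) :
    ∃ χ : Cfsg.IrrCharacter G, (∀ n : N, (χ : G → ℂ) n = (θ : N → ℂ) n) ∧
      ∀ g, (χ : G → ℂ) (g ^ k) = (χ : G → ℂ) g := by
  classical
  have hp : p.Prime := Fact.out
  have := Fintype.ofFinite G
  have := Fintype.ofFinite N
  have hcop := coprime_of_exponent hk₁ hk₂
  obtain ⟨χ, hχ⟩ := CyclicExt.exists_extension N θ hinv
  obtain ⟨g, hgP, hg⟩ := exists_gen N hres ‹_› P
  obtain ⟨a, ha⟩ : ∃ a, orderOf g = p ^ a := by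
    obtain ⟨n, hn⟩ := P.isPGroup'.exists_card_eq
    obtain ⟨a, -, ha⟩ := (Nat.dvd_prime_pow hp).mp (hn ▸ Subgroup.orderOf_dvd_natCard _ hgP)
    exact ⟨a, ha⟩
  have hgk := hk₁ g ⟨a, ha⟩
  let χ' : Cfsg.IrrCharacter G :=
    ⟨fun y => (χ : G → ℂ) (y ^ k), PowChar.isIrrCharacter_pow χ.2 hcop⟩
  have hχ' : ∀ x : N, (χ' : G → ℂ) x = (θ : N → ℂ) x := fun x => by
    show (χ : G → ℂ) ((x : G) ^ k) = _
    rw [← Subgroup.coe_pow, hχ, hfix]
  obtain ⟨l, hl, hlχ⟩ := LinTwist.exists_twist N LinTwist.isCyclic_comm χ χ' (by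
    rw [show (fun x : N => (χ : G → ℂ) x) = (θ : N → ℂ) from funext hχ,
      show (fun x : N => (χ' : G → ℂ) x) = (θ : N → ℂ) from funext hχ', classInner_self_irr]
    exact one_ne_zero)
  have hlval : ∀ y, (χ : G → ℂ) (y ^ k) = (l y : ℂ) * (χ : G → ℂ) y := fun y => by
    have h := congrArg (fun φ : Cfsg.IrrCharacter G => (φ : G → ℂ) y) hlχ
    simp only [LinTwist.twist_apply] at h
    exact h.symm
  -- the determinant makes `l` a `p`-th power
  obtain ⟨n, ρ, hρ, hρχ⟩ := exists_rep χ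
  have hn : Cfsg.charDegree (θ : N → ℂ) = n := by
    have h1 := hχ 1
    rw [OneMemClass.coe_one, ← hρχ, Representation.char_one, Module.finrank_fin_fun,
      DegreeBounds.Basic.charDegree_irr] at h1
    exact_mod_cast h1.symm
  let D : G →* ℂˣ := (LinearMap.det.comp ρ).toHomUnits
  have hD : ∀ y, D y ^ k = l y ^ n * D y := fun y => Units.ext (by
    push_cast
    exact det_pow hcop ρ l (fun z => by rw [hρχ]; exact hlval z) y)
  -- on `N`, `D` is fixed by `k`, so `D ^ (k - 1)` is `l ^ n`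
  obtain ⟨b, hb⟩ : ∃ b : ℤ, (b * n) ≡ 1 [ZMOD (N.index : ℤ)] := by
    obtain ⟨m, hm⟩ := index_eq_pow N hres (p := p)
    have hc : Nat.Coprime n N.index := by
      rw [hm]
      exact Nat.Coprime.pow_right m ((hp.coprime_iff_not_dvd.mpr (hn ▸ hd)).symm)
    refine ⟨Nat.gcdA n N.index, Int.modEq_iff_dvd.mpr ⟨Nat.gcdB n N.index, ?_⟩⟩
    have h1 := Nat.gcd_eq_gcd_ab n N.index
    rw [hc.gcd_eq_one] at h1
    push_cast at h1
    linarith
  -- `D` to the power `(k - 1) / p` on `p`-elements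
  obtain ⟨ν, hν1, hν⟩ : ∃ ν : G →* ℂˣ, (∀ x ∈ N, ν x = 1) ∧ ∀ y, ν y ^ p = l y ^ n := by
    have hkp : k ≡ 1 [MOD p] ∨ ¬ p ∣ Nat.card G := by
      by_cases hpG : p ∣ Nat.card G
      · obtain ⟨h, hh⟩ := exists_prime_orderOf_dvd_card' p hpG
        have h1 := hk₁ h ⟨1, by rw [hh, pow_one]⟩
        rw [pow_eq_pow_iff_modEq, hh] at h1
        exact Or.inl (h1.trans (by simp [Nat.ModEq]))
      · exact Or.inr hpG
    have hDk : ∀ y, (D y : ℂˣ) ^ ((k : ℤ) - 1) = l y ^ n := fun y => by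
      rw [zpow_sub, zpow_natCast, zpow_one, hD, mul_inv_cancel_right]
    rcases hkp with h1 | hpG
    · obtain ⟨t, ht⟩ : (p : ℤ) ∣ (k : ℤ) - 1 := by
        have := Nat.modEq_iff_dvd.mp h1.symm
        exact_mod_cast this
      refine ⟨(zpowGroupHom t).comp D, ?_, fun y => ?_⟩
      · refine hom_trivial N hres _ fun x hx => ?_
        show (D x ^ t) ^ p = 1
        rw [← zpow_natCast, ← zpow_mul, mul_comm t, ← ht, hDk, hl x hx, one_pow]
      · show (D y ^ t) ^ p = _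
        rw [← zpow_natCast, ← zpow_mul, mul_comm t, ← ht, hDk]
    · refine ⟨1, fun _ _ => rfl, fun y => ?_⟩
      have hy : y ∈ N := mem_of_regular N hres fun h => hpG (h.trans (orderOf_dvd_natCard y))
      rw [hl y hy]; simp
  let c : G →* ℂˣ := (zpowGroupHom (-b)).comp ν
  have hc : ∀ x ∈ N, c x = 1 := fun x hx => by
    show ν x ^ (-b) = 1
    rw [hν1 x hx, one_zpow]
  refine ⟨LinTwist.twist c χ, fun x => ?_, fun y => ?_⟩
  · rw [LinTwist.twist_apply, hc x x.2, Units.val_one, one_mul, hχ]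
  · rw [LinTwist.twist_apply, LinTwist.twist_apply, hlval, hom_pow N hg hgk c hc y, ← mul_assoc]
    congr 1
    rw [← Units.val_mul]
    congr 1
    have h1 : c y ^ p = (l y)⁻¹ := by
      show (ν y ^ (-b)) ^ p = _
      rw [← zpow_natCast, ← zpow_mul, mul_comm (-b), zpow_mul, zpow_natCast, hν, ← zpow_natCast,
        ← zpow_mul]
      have hord : (orderOf (l y) : ℤ) ∣ (n : ℤ) * -b - (-1) := by
        refine dvd_trans (Int.natCast_dvd_natCast.mpr (orderOf_dvd_of_pow_eq_one (n := N.index) ?_)) ?_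
        · rw [← map_pow]; exact hl _ (Subgroup.pow_index_mem N y)
        · have := Int.modEq_iff_dvd.mp hb
          have e : (n : ℤ) * -b - (-1) = 1 - b * n := by ring
          rw [e]; exact this
      rw [← zpow_neg_one, zpow_eq_zpow_iff_modEq, Int.modEq_comm, Int.modEq_iff_dvd]
      exact hord
    rw [h1, inv_mul_cancel_right]

theorem twist_fix_iff (hres : N = Cfsg.pResidual p G) [IsCyclic (G ⧸ N)] (P : Sylow p G)
    {k : ℕ} (hk₁ : ∀ g : G, (∃ j : ℕ, orderOf g = p ^ j) → g ^ k = g ^ (1 + p))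
    (θ : Cfsg.IrrCharacter N) (χ : Cfsg.IrrCharacter G)
    (hχ : ∀ n : N, (χ : G → ℂ) n = (θ : N → ℂ) n) (hf : ∀ g, (χ : G → ℂ) (g ^ k) = (χ : G → ℂ) g)
    (l : G →* ℂˣ) (hl : ∀ x ∈ N, l x = 1) :
    (∀ g, (LinTwist.twist l χ : G → ℂ) (g ^ k) = (LinTwist.twist l χ : G → ℂ) g) ↔
      ∀ y, l y ^ p = 1 := by
  classical
  have := Fintype.ofFinite G
  have := Fintype.ofFinite N
  obtain ⟨g, hgP, hg⟩ := exists_gen N hres ‹_› P
  obtain ⟨a, ha⟩ : ∃ a, orderOf g = p ^ a := by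
    obtain ⟨n, hn⟩ := P.isPGroup'.exists_card_eq
    obtain ⟨a, -, ha⟩ := (Nat.dvd_prime_pow (Fact.out : p.Prime)).mp
      (hn ▸ Subgroup.orderOf_dvd_natCard _ hgP)
    exact ⟨a, ha⟩
  simp only [LinTwist.twist_apply, hf, hom_pow N hg (hk₁ g ⟨a, ha⟩) l hl, Units.val_mul]
  constructor
  · intro h y
    obtain ⟨x, hx⟩ : ∃ x : N, (χ : G → ℂ) ((x : G) * y) ≠ 0 := by
      by_contra hcon
      push Not at hcon
      have h1 := LinTwist.coset_norm N LinTwist.isCyclic_comm χ θ hχ y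
      simp only [hcon, zero_mul, Finset.sum_const_zero] at h1
      exact Induced.Basic.subgroup_card_ne_zero N h1.symm
    have h1 := h ((x : G) * y)
    rw [map_mul, hl x x.2, one_mul, mul_assoc] at h1
    have h2 : ((l y ^ p : ℂˣ) : ℂ) * (χ : G → ℂ) ((x : G) * y) =
        1 * (χ : G → ℂ) ((x : G) * y) := by
      rw [one_mul]; exact mul_left_cancel₀ (Units.ne_zero _) h1
    exact Units.ext (mul_right_cancel₀ hx h2)
  · intro h y
    rw [h y, Units.val_one, mul_one]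

theorem card_torsion_dual (hres : N = Cfsg.pResidual p G) [IsCyclic (G ⧸ N)] (hne : N ≠ ⊤) :
    Nat.card {l : G →* ℂˣ // (∀ x ∈ N, l x = 1) ∧ ∀ y, l y ^ p = 1} = p := by
  classical
  have hp : p.Prime := Fact.out
  obtain ⟨q, hq⟩ := IsCyclic.exists_generator (α := G ⧸ N)
  obtain ⟨y₀, rfl⟩ := QuotientGroup.mk_surjective q
  have hord : orderOf (y₀ : G ⧸ N) = Nat.card (G ⧸ N) := orderOf_eq_card_of_forall_mem_zpowers hq
  obtain ⟨m, hm⟩ := index_eq_pow N hres (p := p)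
  have hdvd : p ∣ orderOf (y₀ : G ⧸ N) := by
    rw [hord, ← Subgroup.index_eq_card, hm]
    refine dvd_pow_self p fun h0 => hne ?_
    rw [h0, pow_zero] at hm
    exact Subgroup.index_eq_one.mp hm
  have hgen : ∀ y : G, ∃ i : ℤ, ∃ x ∈ N, y = x * y₀ ^ i := by
    intro y
    obtain ⟨i, hi⟩ := hq y
    refine ⟨i, y * (y₀ ^ i)⁻¹, ?_, by simp⟩
    rw [← QuotientGroup.eq_one_iff, QuotientGroup.mk_mul, QuotientGroup.mk_inv, ← hi]
    simp
  conv_rhs => rw [← Complex.card_rootsOfUnity p]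
  refine Nat.card_eq_of_bijective
    (fun l => (⟨l.1 y₀, (mem_rootsOfUnity _ _).mpr (l.2.2 y₀)⟩ : rootsOfUnity p ℂ)) ⟨?_, ?_⟩
  · rintro ⟨l, hl, hlp⟩ ⟨l', hl', hlp'⟩ h
    have h0 : l y₀ = l' y₀ := congrArg (fun z : rootsOfUnity p ℂ => (z : ℂˣ)) h
    refine Subtype.ext (MonoidHom.ext fun y => ?_)
    obtain ⟨i, x, hx, rfl⟩ := hgen y
    show l _ = l' _
    rw [map_mul, map_mul, hl x hx, hl' x hx, map_zpow, map_zpow, h0]
  · rintro ⟨z, hz⟩
    rw [mem_rootsOfUnity] at hz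
    let f : G ⧸ N →* ℂˣ := monoidHomOfForallMemZpowers hq (g' := z)
      ((orderOf_dvd_of_pow_eq_one hz).trans hdvd)
    refine ⟨⟨f.comp (QuotientGroup.mk' N), fun x hx => ?_, fun y => ?_⟩, Subtype.ext ?_⟩
    · show f (x : G ⧸ N) = 1
      rw [(QuotientGroup.eq_one_iff x).mpr hx, map_one]
    · obtain ⟨i, x, hx, rfl⟩ := hgen y
      show f ((x * y₀ ^ i : G) : G ⧸ N) ^ p = 1
      rw [QuotientGroup.mk_mul, (QuotientGroup.eq_one_iff x).mpr hx, one_mul, QuotientGroup.mk_zpow,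
        map_zpow, monoidHomOfForallMemZpowers_apply_gen, ← zpow_natCast, zpow_comm, zpow_natCast,
        hz, one_zpow]
    · exact monoidHomOfForallMemZpowers_apply_gen hq ((orderOf_dvd_of_pow_eq_one hz).trans hdvd)

end Cfsg.Agent.Lib.PIndexBlock.SigmaCount
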